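import Cfsg.Agent.H721.SR.Orth

/-!
# TEAM SR: common tools for one isometry

Notation of this file: `P g p` is the endomorphism `p(g)`.

* `adj`          : `B (p(g) x) y = B x (p(g⁻¹) y)`;
* `stInv`        : `St B ε g⁻¹`;
* `mem_cyc`      : `x ∈ cyc g v ↔ ∃ p, x = p(g) v`; `mem_cyc'` with `g⁻¹`; `cyc_inv`;
* `ann_of`       : `f` irreducible, `f^k(g) v = 0`, `f^(k-1)(g) v ≠ 0` ⟹ `Ann g v (f^k)`;
* `socle`        : `¬ f^k ∣ p` ⟹ `∃ a b, f^(k-1) = a * p + b * f^k`;
* `P_reverse`    : `p.reverse(g) = g^(deg p) p(g⁻¹)`;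
* `P_inv_zero`   : `p(g⁻¹) = 0` if `p(g) = 0`;
* `exists_max`   : the maximal exponent and a vector with annihilator `f^k`;
* `exists_dual`  : `x ≠ 0` killed by `f^k(g)` pairs nontrivially with a `w` killed by `f^k(g⁻¹)`;
* `ndOn_cyc`, `ndOn_pair` : nondegeneracy through the socle;
* `exists_ppiece` : THEOREM PIECE, part (i).
-/

set_option autoImplicit false

namespace Cfsg.Agent.H807.SR

open Polynomial Module
open Cfsg.Agent.H721.SR

variable {F V : Type*} [Field F] [AddCommGroup V] [Module F V]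

/-- `p(g)` -/
noncomputable def P (g : V ≃ₗ[F] V) (p : F[X]) : V →ₗ[F] V := aeval (g : V →ₗ[F] V) p

theorem P_def (g : V ≃ₗ[F] V) (p : F[X]) : P g p = aeval (g : V →ₗ[F] V) p := rfl

section Basic

variable (g : V ≃ₗ[F] V)

@[simp] theorem P_zero (x : V) : P g 0 x = 0 := by simp [P]
@[simp] theorem P_one (x : V) : P g 1 x = x := by simp [P]
@[simp] theorem P_C (c : F) (x : V) : P g (C c) x = c • x := by
  simp [P, aeval_C, Algebra.algebraMap_eq_smul_one]
@[simp] theorem P_X (x : V) : P g X x = g x := by simp [P]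
theorem P_add (p q : F[X]) (x : V) : P g (p + q) x = P g p x + P g q x := by simp [P]
theorem P_sub (p q : F[X]) (x : V) : P g (p - q) x = P g p x - P g q x := by simp [P]
theorem P_neg (p : F[X]) (x : V) : P g (-p) x = - P g p x := by simp [P]
theorem P_mul (p q : F[X]) (x : V) : P g (p * q) x = P g p (P g q x) := by simp [P]
theorem P_comm (p q : F[X]) (x : V) : P g p (P g q x) = P g q (P g p x) := by
  rw [← P_mul, mul_comm, P_mul]
theorem P_smul (c : F) (p : F[X]) (x : V) : P g (c • p) x = c • P g p x := by simp [P]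
theorem P_pow (p : F[X]) (n : ℕ) : P g (p ^ n) = P g p ^ n := by simp [P]
theorem P_X_pow (n : ℕ) (x : V) : P g (X ^ n) x = (g ^ n) x := by
  induction n with
  | zero => simp
  | succ n ih => rw [pow_succ', P_mul, ih, P_X, pow_succ']; rfl

theorem ann_iff {v : V} {m : F[X]} : Ann g v m ↔ ∀ p : F[X], P g p v = 0 ↔ m ∣ p := Iff.rfl

theorem inv_zpow_apply (i : ℤ) (v : V) : ((g⁻¹) ^ i) v = (g ^ (-i)) v := by
  rw [inv_zpow, zpow_neg]

theorem cyc_inv (v : V) : cyc g⁻¹ v = cyc g v := by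
  unfold cyc
  congr 1
  ext x
  constructor
  · rintro ⟨i, rfl⟩
    exact ⟨-i, by simp only [inv_zpow_apply]⟩
  · rintro ⟨i, rfl⟩
    exact ⟨-i, by simp only [inv_zpow_apply, neg_neg]⟩

theorem self_mem_cyc (v : V) : v ∈ cyc g v := Submodule.subset_span ⟨0, by simp⟩

theorem P_inv_g (p : F[X]) (x : V) : P g p (g x) = g (P g p x) := by
  rw [← P_X g, P_comm, P_X]

theorem P_mem_cyc (p : F[X]) (v : V) : P g p v ∈ cyc g v := by
  induction p using Polynomial.induction_on' with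
  | add p q hp hq => rw [P_add]; exact Submodule.add_mem _ hp hq
  | monomial n a =>
    rw [← C_mul_X_pow_eq_monomial, P_mul, P_C, P_X_pow]
    refine Submodule.smul_mem _ _ (Submodule.subset_span ⟨(n : ℤ), ?_⟩)
    simp only [zpow_natCast]

/-- `{p(g) v}` -/
noncomputable def cyc' (v : V) : Submodule F V where
  carrier := {x | ∃ p, x = P g p v}
  zero_mem' := ⟨0, by simp⟩
  add_mem' := by
    rintro _ _ ⟨p, rfl⟩ ⟨q, rfl⟩
    exact ⟨p + q, (P_add ..).symm⟩
  smul_mem' := by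
    rintro c _ ⟨p, rfl⟩
    exact ⟨c • p, (P_smul ..).symm⟩

theorem mem_cyc [FiniteDimensional F V] {v x : V} : x ∈ cyc g v ↔ ∃ p, x = P g p v := by
  constructor
  · intro hx
    have hg : ∀ y ∈ cyc' g v, g y ∈ cyc' g v := by
      rintro _ ⟨p, rfl⟩
      exact ⟨X * p, by rw [P_mul, P_X]⟩
    have hmap : (cyc' g v).map (g : V →ₗ[F] V) = cyc' g v := by
      apply Submodule.eq_of_le_of_finrank_eq
      · rintro _ ⟨y, hy, rfl⟩
        exact hg y hy
      · exact LinearEquiv.finrank_map_eq g _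
    have hg' : ∀ y ∈ cyc' g v, g⁻¹ y ∈ cyc' g v := by
      intro y hy
      rw [← hmap] at hy
      obtain ⟨z, hz, rfl⟩ := hy
      have : g⁻¹ ((g : V →ₗ[F] V) z) = z := g.symm_apply_apply z
      rw [this]; exact hz
    have hle : cyc g v ≤ cyc' g v := by
      refine Submodule.span_le.mpr ?_
      rintro _ ⟨i, rfl⟩
      show (g ^ i) v ∈ cyc' g v
      induction i using Int.induction_on with
      | zero => exact ⟨1, by simp⟩
      | succ n ih =>
        have := hg _ ih
        rwa [← LinearEquiv.mul_apply, ← zpow_one_add, add_comm] at this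
      | pred n ih =>
        have := hg' _ ih
        rwa [← LinearEquiv.mul_apply, ← zpow_neg_one, ← zpow_add, add_comm, ← sub_eq_add_neg] at this
    exact hle hx
  · rintro ⟨p, rfl⟩
    exact P_mem_cyc g p v

theorem mem_cyc_inv [FiniteDimensional F V] {v x : V} : x ∈ cyc g v ↔ ∃ p, x = P g⁻¹ p v := by
  rw [← cyc_inv, mem_cyc]

theorem P_mem_of_mem_cyc [FiniteDimensional F V] {v x : V} (hx : x ∈ cyc g v) (p : F[X]) :
    P g p x ∈ cyc g v := by
  obtain ⟨q, rfl⟩ := (mem_cyc g).1 hx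
  rw [← P_mul]; exact P_mem_cyc g _ v

theorem P_inv_mem_of_mem_cyc [FiniteDimensional F V] {v x : V} (hx : x ∈ cyc g v) (p : F[X]) :
    P g⁻¹ p x ∈ cyc g v := by
  rw [← cyc_inv] at hx ⊢
  exact P_mem_of_mem_cyc _ hx p

theorem g_mem_of_mem_cyc [FiniteDimensional F V] {v x : V} (hx : x ∈ cyc g v) : g x ∈ cyc g v := by
  have := P_mem_of_mem_cyc g hx X
  rwa [P_X] at this

theorem g_inv_mem_of_mem_cyc [FiniteDimensional F V] {v x : V} (hx : x ∈ cyc g v) :
    g⁻¹ x ∈ cyc g v := by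
  have := P_inv_mem_of_mem_cyc g hx X
  rwa [P_X] at this

end Basic

section Reverse

variable (g : V ≃ₗ[F] V)

/-- `(reflect N p)(g) = g^N p(g⁻¹)` -/
theorem P_reflect (N : ℕ) (p : F[X]) (hp : p.natDegree ≤ N) (x : V) :
    P g (reflect N p) x = (g ^ N) (P g⁻¹ p x) := by
  refine Polynomial.induction_with_natDegree_le
    (fun p => P g (reflect N p) x = (g ^ N) (P g⁻¹ p x)) N ?_ ?_ ?_ p hp
  · simp
  · intro n c _ hn
    rw [reflect_C_mul, reflect_monomial, revAt_le hn]
    rw [P_mul, P_C, P_X_pow, P_mul, P_C, P_X_pow, map_smul]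
    congr 1
    have : (g ^ N : V ≃ₗ[F] V) = g ^ (N - n) * g ^ n := by rw [← pow_add, Nat.sub_add_cancel hn]
    rw [this, LinearEquiv.mul_apply]
    congr 1
    rw [inv_pow, ← LinearEquiv.mul_apply, mul_inv_cancel]; rfl
  · intro p q _ _ hp hq
    rw [reflect_add, P_add, hp, hq, P_add, map_add]

theorem P_reverse (p : F[X]) (x : V) :
    P g p.reverse x = (g ^ p.natDegree) (P g⁻¹ p x) := P_reflect g _ p le_rfl x

theorem P_inv_reverse (p : F[X]) (x : V) :
    P g⁻¹ p.reverse x = (g⁻¹ ^ p.natDegree) (P g p x) := by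
  have := P_reverse g⁻¹ p x
  rwa [inv_inv] at this

theorem P_reverse_eq_zero {p : F[X]} {x : V} : P g p.reverse x = 0 ↔ P g⁻¹ p x = 0 := by
  rw [P_reverse]
  exact (g ^ p.natDegree).map_eq_zero_iff

theorem P_inv_reverse_eq_zero {p : F[X]} {x : V} : P g⁻¹ p.reverse x = 0 ↔ P g p x = 0 := by
  rw [P_inv_reverse]
  exact (g⁻¹ ^ p.natDegree).map_eq_zero_iff

theorem P_inv_comm (p q : F[X]) (x : V) : P g p (P g⁻¹ q x) = P g⁻¹ q (P g p x) := by
  have h1 : ∀ x, P g p (g⁻¹ x) = g⁻¹ (P g p x) := by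
    intro x
    have h : P g p (g (g⁻¹ x)) = g (P g p (g⁻¹ x)) := P_inv_g g p _
    have h2 : g (g⁻¹ x) = x := g.apply_symm_apply x
    rw [h2] at h
    rw [h]
    exact (g.symm_apply_apply _).symm
  induction q using Polynomial.induction_on' with
  | add q r hq hr => rw [P_add, P_add, map_add, hq, hr]
  | monomial n a =>
    rw [← C_mul_X_pow_eq_monomial, P_mul, P_C, P_mul, P_C, map_smul]
    congr 1
    clear a
    induction n generalizing x with
    | zero => simp
    | succ n ih => rw [pow_succ, P_mul, P_mul, P_X, P_X, ih, h1]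

end Reverse

section Form

variable {B : V →ₗ[F] V →ₗ[F] F} {ε : F} {g : V ≃ₗ[F] V}

theorem g_inv_apply (g : V ≃ₗ[F] V) (x : V) : g (g⁻¹ x) = x := g.apply_symm_apply x
theorem inv_g_apply (g : V ≃ₗ[F] V) (x : V) : g⁻¹ (g x) = x := g.symm_apply_apply x

theorem stInv (h : St B ε g) : St B ε g⁻¹ where
  eps := h.eps
  symm := h.symm
  nondeg := h.nondeg
  isom := fun x y => by
    have := h.isom (g⁻¹ x) (g⁻¹ y)
    rw [g_inv_apply, g_inv_apply] at this
    exact this.symm

theorem eps_sq (h : St B ε g) : ε * ε = 1 := by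
  rcases h.eps with h | h <;> rw [h] <;> ring

theorem eps_ne (h : St B ε g) : ε ≠ 0 := by
  intro h0
  have := eps_sq h
  rw [h0] at this
  simp at this

theorem b_comm (h : St B ε g) (x y : V) : B x y = 0 ↔ B y x = 0 := by
  rw [h.symm x y, mul_eq_zero]
  simp [eps_ne h]

theorem st_nondeg' (h : St B ε g) (y : V) (hy : ∀ x, B x y = 0) : y = 0 :=
  h.nondeg y fun x => (b_comm h _ _).1 (hy x)

theorem adj_g (h : St B ε g) (x y : V) : B (g x) y = B x (g⁻¹ y) := by
  have := h.isom x (g⁻¹ y)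
  rwa [g_inv_apply] at this

/-- adjunction -/
theorem adj (h : St B ε g) (p : F[X]) (x y : V) : B (P g p x) y = B x (P g⁻¹ p y) := by
  induction p using Polynomial.induction_on' with
  | add p q hp hq => rw [P_add, P_add, map_add, map_add, LinearMap.add_apply, hp, hq]
  | monomial n a =>
    rw [← C_mul_X_pow_eq_monomial, P_mul, P_C, P_mul, P_C, map_smul, map_smul,
      LinearMap.smul_apply]
    congr 1
    clear a
    induction n generalizing x y with
    | zero => simp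
    | succ n ih => rw [pow_succ', P_mul, P_X, adj_g h, ih, ← P_X g⁻¹, ← P_mul, mul_comm]

theorem adj' (h : St B ε g) (p : F[X]) (x y : V) : B (P g⁻¹ p x) y = B x (P g p y) := by
  have := adj (stInv h) p x y
  rwa [inv_inv] at this

/-- `p(g⁻¹) = 0` if `p(g) = 0` -/
theorem P_inv_zero (h : St B ε g) {p : F[X]} (hp : ∀ x, P g p x = 0) (x : V) :
    P g⁻¹ p x = 0 := by
  apply st_nondeg' h
  intro y
  rw [← adj h, hp, map_zero, LinearMap.zero_apply]

end Form

section Ann

/-- `f^(k-1)` is a multiple of `p` modulo `f^k` if `f^k` does not divide `p` -/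
theorem socle {f : F[X]} (hf : Irreducible f) {k : ℕ} {p : F[X]} (hp : ¬ f ^ k ∣ p) :
    ∃ a b, f ^ (k - 1) = a * p + b * f ^ k := by
  classical
  obtain ⟨j, hj, u, hu⟩ := (dvd_prime_pow hf.prime k).1 (EuclideanDomain.gcd_dvd_right p (f ^ k))
  have hjk : j < k := by
    rcases hj.lt_or_eq with h | h
    · exact h
    · exfalso
      apply hp
      rw [← h, ← hu]
      exact (associated_mul_unit_left _ _ u.isUnit).dvd.trans (EuclideanDomain.gcd_dvd_left _ _)
  refine ⟨f ^ (k - 1 - j) * (u : F[X]) * EuclideanDomain.gcdA p (f ^ k),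
    f ^ (k - 1 - j) * (u : F[X]) * EuclideanDomain.gcdB p (f ^ k), ?_⟩
  have h1 : f ^ (k - 1) = f ^ (k - 1 - j) * f ^ j := by
    rw [← pow_add]; congr 1; omega
  rw [h1, ← hu, EuclideanDomain.gcd_eq_gcd_ab]
  ring

variable {g : V ≃ₗ[F] V}

theorem ann_of {f : F[X]} (hf : Irreducible f) {k : ℕ} {v : V} (h0 : P g (f ^ k) v = 0)
    (h1 : P g (f ^ (k - 1)) v ≠ 0) : Ann g v (f ^ k) := by
  intro p
  constructor
  · intro hp
    by_contra hn
    obtain ⟨a, b, hab⟩ := socle hf hn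
    apply h1
    rw [hab, P_add, P_mul, P_mul, h0, map_zero, add_zero]
    have : P g p v = 0 := hp
    rw [this, map_zero]
  · rintro ⟨q, rfl⟩
    show P g _ v = 0
    rw [mul_comm, P_mul, h0, map_zero]

theorem ann_zero {f : F[X]} {k : ℕ} {v : V} (h : Ann g v (f ^ k)) : P g (f ^ k) v = 0 :=
  (h _).2 dvd_rfl

theorem ann_ne {f : F[X]} (hf : Irreducible f) {k : ℕ} (hk : 0 < k) {v : V}
    (h : Ann g v (f ^ k)) : P g (f ^ (k - 1)) v ≠ 0 := by
  intro h0
  have := (h _).1 h0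
  rw [pow_dvd_pow_iff hf.ne_zero hf.not_isUnit] at this
  omega

/-- the maximal exponent, a complement, and a vector with annihilator `f ^ k` -/
theorem exists_max [FiniteDimensional F V] {f : F[X]} (hf : Irreducible f)
    (hd : f ∣ minpoly F (g : V →ₗ[F] V)) :
    ∃ (k : ℕ) (n : F[X]), 0 < k ∧ IsCoprime f n ∧ (∀ x, P g (f ^ k * n) x = 0) ∧
      ∃ v, Ann g v (f ^ k) := by
  have hm0 : minpoly F (g : V →ₗ[F] V) ≠ 0 :=
    minpoly.ne_zero (Algebra.IsIntegral.isIntegral (g : V →ₗ[F] V))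
  obtain ⟨k, n, hn, hm⟩ := WfDvdMonoid.max_power_factor hm0 hf
  have hk : 0 < k := by
    rcases Nat.eq_zero_or_pos k with h | h
    · exfalso
      rw [h, pow_zero, one_mul] at hm
      exact hn (hm ▸ hd)
    · exact h
  have hn0 : n ≠ 0 := by rintro rfl; exact hn (dvd_zero _)
  have h0 : ∀ x, P g (f ^ k * n) x = 0 := by
    intro x
    rw [← hm, P_def, minpoly.aeval]; rfl
  refine ⟨k, n, hk, (hf.coprime_iff_not_dvd).2 hn, h0, ?_⟩
  by_cases hv : ∀ x, P g (f ^ (k - 1) * n) x = 0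
  · exfalso
    have h1 : aeval (g : V →ₗ[F] V) (f ^ (k - 1) * n) = 0 := LinearMap.ext hv
    have h2 := minpoly.dvd F _ h1
    rw [hm] at h2
    have h3 := (mul_dvd_mul_iff_right hn0).1 h2
    rw [pow_dvd_pow_iff hf.ne_zero hf.not_isUnit] at h3
    omega
  · push Not at hv
    obtain ⟨x, hx⟩ := hv
    refine ⟨P g n x, ann_of hf ?_ ?_⟩
    · rw [← P_mul]; exact h0 x
    · rw [← P_mul]; exact hx

/-- projection to the `f`-component of `g⁻¹` -/
theorem exists_dual {B : V →ₗ[F] V →ₗ[F] F} {ε : F} (h : St B ε g) {f n : F[X]} {k : ℕ}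
    (hc : IsCoprime f n) (h0 : ∀ x, P g (f ^ k * n) x = 0) {x : V} (hx0 : x ≠ 0)
    (hx : P g (f ^ k) x = 0) : ∃ w, P g⁻¹ (f ^ k) w = 0 ∧ B x w ≠ 0 := by
  by_contra hcon
  push Not at hcon
  apply hx0
  apply h.nondeg
  intro y
  obtain ⟨a, b, hab⟩ : IsCoprime (f ^ k) n := hc.pow_left
  have hxx : x = P g (b * n) x := by
    have : P g (a * f ^ k + b * n) x = x := by rw [hab, P_one]
    rw [P_add, P_mul, hx, map_zero, zero_add] at this
    exact this.symm
  rw [hxx, adj h]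
  apply hcon
  rw [P_mul, P_comm, P_comm g⁻¹ (f ^ k) n, ← P_mul g⁻¹ n (f ^ k), mul_comm n,
    P_inv_zero h h0, map_zero]

theorem ann_pair {B : V →ₗ[F] V →ₗ[F] F} {ε : F} (h : St B ε g) {f : F[X]}
    (hf : Irreducible f) {k : ℕ} {v w : V} (hw : P g⁻¹ (f ^ k) w = 0)
    (hvw : B (P g (f ^ (k - 1)) v) w ≠ 0) : Ann g⁻¹ w (f ^ k) := by
  refine ann_of hf hw ?_
  intro h0
  rw [adj h, h0, map_zero] at hvw
  exact hvw rfl

/-- nondegeneracy of a cyclic piece through the socle -/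
theorem ndOn_cyc [FiniteDimensional F V] {B : V →ₗ[F] V →ₗ[F] F} {ε : F} (h : St B ε g)
    {f : F[X]} (hf : Irreducible f) {k : ℕ} {v : V} (hA : P g (f ^ k) v = 0) {s : F[X]}
    (hs : B (P g (s * f ^ (k - 1)) v) v ≠ 0) : NdOn B (cyc g v) := by
  intro x hx hxy
  obtain ⟨p, rfl⟩ := (mem_cyc g).1 hx
  by_contra hn
  have hp : ¬ f ^ k ∣ p := by
    rintro ⟨q, rfl⟩
    apply hn
    rw [mul_comm, P_mul, hA, map_zero]
  obtain ⟨a, b, hab⟩ := socle hf hp
  apply hs
  have h1 : P g (s * f ^ (k - 1)) v = P g (s * a) (P g p v) := by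
    rw [hab, mul_add, P_add, ← mul_assoc, P_mul g (s * a) p, ← mul_assoc, P_mul g (s * b),
      hA, map_zero, add_zero]
  rw [h1, adj h]
  exact hxy _ ((mem_cyc_inv g).2 ⟨_, rfl⟩)

/-- nondegeneracy of a pair piece through the socle -/
theorem ndOn_pair [FiniteDimensional F V] {B : V →ₗ[F] V →ₗ[F] F} {ε : F} (h : St B ε g)
    {f : F[X]} (hf : Irreducible f) {k : ℕ} {v w : V} (hv : P g (f ^ k) v = 0)
    (hw : P g⁻¹ (f ^ k) w = 0) (iv : Iso0 B (cyc g v)) (iw : Iso0 B (cyc g w))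
    (hvw : B (P g (f ^ (k - 1)) v) w ≠ 0) : NdOn B (cyc g v ⊔ cyc g w) := by
  intro x hx hxy
  obtain ⟨y, hy, z, hz, rfl⟩ := Submodule.mem_sup.1 hx
  have h1 : y = 0 := by
    obtain ⟨p, rfl⟩ := (mem_cyc g).1 hy
    by_contra hn
    have hp : ¬ f ^ k ∣ p := by
      rintro ⟨q, rfl⟩
      apply hn
      rw [mul_comm, P_mul, hv, map_zero]
    obtain ⟨a, b, hab⟩ := socle hf hp
    apply hvw
    have h1 : P g (f ^ (k - 1)) v = P g a (P g p v) := by
      rw [hab, P_add, P_mul, P_mul, hv, map_zero, add_zero]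
    rw [h1, adj h]
    have h2 : P g⁻¹ a w ∈ cyc g w := (mem_cyc_inv g).2 ⟨_, rfl⟩
    have h3 := hxy _ (Submodule.mem_sup_right h2)
    rw [map_add, LinearMap.add_apply, iw z hz _ h2, add_zero] at h3
    exact h3
  have h2 : z = 0 := by
    obtain ⟨p, rfl⟩ := (mem_cyc_inv g).1 hz
    by_contra hn
    have hp : ¬ f ^ k ∣ p := by
      rintro ⟨q, rfl⟩
      apply hn
      rw [mul_comm, P_mul, hw, map_zero]
    obtain ⟨a, b, hab⟩ := socle hf hp
    apply hvw
    have h1 : P g⁻¹ (f ^ (k - 1)) w = P g⁻¹ a (P g⁻¹ p w) := by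
      rw [hab, P_add, P_mul, P_mul, hw, map_zero, add_zero]
    rw [adj h, h1, b_comm h, adj' h]
    have h2 : P g a v ∈ cyc g v := (mem_cyc g).2 ⟨_, rfl⟩
    have h3 := hxy _ (Submodule.mem_sup_left h2)
    rw [map_add, LinearMap.add_apply, iv y hy _ h2, zero_add] at h3
    exact h3
  rw [h1, h2, add_zero]

/-- the cyclic module of a vector killed by `f(g)^k` is totally isotropic if `f` is coprime to its
reciprocal polynomial -/
theorem iso0_of_coprime [FiniteDimensional F V] {B : V →ₗ[F] V →ₗ[F] F} {ε : F} (h : St B ε g)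
    {f : F[X]} {k : ℕ} {v : V} (hc : IsCoprime f f.reverse) (hv : P g (f ^ k) v = 0) :
    Iso0 B (cyc g v) := by
  obtain ⟨a, b, hab⟩ : IsCoprime (f ^ k) (f.reverse ^ k) := hc.pow
  intro x hx y hy
  obtain ⟨p, rfl⟩ := (mem_cyc g).1 hx
  obtain ⟨q, rfl⟩ := (mem_cyc g).1 hy
  have h1 : v = P g (b * f.reverse ^ k) v := by
    have : P g (a * f ^ k + b * f.reverse ^ k) v = v := by rw [hab, P_one]
    rw [P_add, P_mul, hv, map_zero, zero_add] at this
    exact this.symm
  have h2 : B (P g p v) (P g q (P g (b * f.reverse ^ k) v)) = 0 := by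
    have h3 : P g q (P g (b * f.reverse ^ k) v) = P g (f.reverse ^ k) (P g (q * b) v) := by
      rw [← P_mul, ← P_mul]; congr 2; ring
    have h4 : ∀ (j : ℕ) (z : V), P g (f.reverse ^ j) z
        = P g⁻¹ (f ^ j) ((g ^ (j * f.natDegree)) z) := by
      intro j
      induction j with
      | zero => intro z; simp
      | succ j ih =>
        intro z
        rw [pow_succ, P_mul, ih, P_reverse, pow_succ, P_mul]
        congr 1
        have h5 : ∀ (N : ℕ) (z : V), (g ^ N) z = P g (X ^ N) z := fun N z => (P_X_pow g N z).symm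
        rw [h5, h5, h5, ← P_inv_comm g (X ^ ((j + 1) * f.natDegree)) f, ← P_mul, ← pow_add]
        congr 3
        ring
    rw [h3, h4, ← adj h, ← P_mul, mul_comm (f ^ k) p, P_mul, hv, map_zero, map_zero,
      LinearMap.zero_apply]
  rwa [← h1] at h2

/-- `f` is irreducible and not associated to its reciprocal polynomial: it is coprime to it
(`g` invertible is not needed; `f.reverse` may be a constant) -/
theorem coprime_of_not_assoc {f : F[X]} (hf : Irreducible f) (hna : ¬ Associated f f.reverse) :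
    IsCoprime f f.reverse := by
  rw [hf.coprime_iff_not_dvd]
  intro hd
  apply hna
  refine associated_of_dvd_of_natDegree_le hd ?_ ?_
  · intro h0
    exact hf.ne_zero (by simpa using h0)
  · exact reverse_natDegree_le f

/-- THEOREM PIECE, part (i) -/
theorem exists_ppiece [FiniteDimensional F V] {B : V →ₗ[F] V →ₗ[F] F} {ε : F} (h : St B ε g)
    {f : F[X]} (hf : Irreducible f) (hd : f ∣ minpoly F (g : V →ₗ[F] V))
    (hna : ¬ Associated f f.reverse) : ∃ k v w, PPiece B g f k v w := by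
  obtain ⟨k, n, hk, hc, h0, v, hv⟩ := exists_max (g := g) hf hd
  have hv0 := ann_zero hv
  have hv1 := ann_ne hf hk hv
  obtain ⟨w, hw, hvw⟩ := exists_dual h hc h0 hv1 (by rw [P_comm, hv0, map_zero])
  have hcr := coprime_of_not_assoc hf hna
  have iv := iso0_of_coprime h hcr hv0
  have iw : Iso0 B (cyc g w) := by
    have := iso0_of_coprime (stInv h) hcr hw
    rwa [cyc_inv] at this
  exact ⟨k, v, w, hf, hk, hv, ann_pair h hf hw hvw, iv, iw, ndOn_pair h hf hv0 hw iv iw hvw⟩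

end Ann

end Cfsg.Agent.H807.SR
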